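import Cfsg.Agent.Lib.ToddCox.SuzC3.Data0
set_option autoImplicit false
set_option maxRecDepth 100000
namespace Cfsg.Agent.Lib.ToddCox.SuzC3
def eT_1_3 (j : ℕ) : ℕ := bif Nat.blt j 2 then E_1 else E_2
def eT_0_3 (j : ℕ) : ℕ := bif Nat.blt j 1 then E_0 else (eT_1_3 j)
def eT_4_6 (j : ℕ) : ℕ := bif Nat.blt j 5 then E_4 else E_5
def eT_3_6 (j : ℕ) : ℕ := bif Nat.blt j 4 then E_3 else (eT_4_6 j)
def eT_0_6 (j : ℕ) : ℕ := bif Nat.blt j 3 then (eT_0_3 j) else (eT_3_6 j)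
def eT_7_9 (j : ℕ) : ℕ := bif Nat.blt j 8 then E_7 else E_8
def eT_6_9 (j : ℕ) : ℕ := bif Nat.blt j 7 then E_6 else (eT_7_9 j)
def eT_10_12 (j : ℕ) : ℕ := bif Nat.blt j 11 then E_10 else E_11
def eT_9_12 (j : ℕ) : ℕ := bif Nat.blt j 10 then E_9 else (eT_10_12 j)
def eT_6_12 (j : ℕ) : ℕ := bif Nat.blt j 9 then (eT_6_9 j) else (eT_9_12 j)
def eT_0_12 (j : ℕ) : ℕ := bif Nat.blt j 6 then (eT_0_6 j) else (eT_6_12 j)
def eT_13_15 (j : ℕ) : ℕ := bif Nat.blt j 14 then E_13 else E_14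
def eT_12_15 (j : ℕ) : ℕ := bif Nat.blt j 13 then E_12 else (eT_13_15 j)
def eT_16_18 (j : ℕ) : ℕ := bif Nat.blt j 17 then E_16 else E_17
def eT_15_18 (j : ℕ) : ℕ := bif Nat.blt j 16 then E_15 else (eT_16_18 j)
def eT_12_18 (j : ℕ) : ℕ := bif Nat.blt j 15 then (eT_12_15 j) else (eT_15_18 j)
def eT_19_21 (j : ℕ) : ℕ := bif Nat.blt j 20 then E_19 else E_20
def eT_18_21 (j : ℕ) : ℕ := bif Nat.blt j 19 then E_18 else (eT_19_21 j)
def eT_21_23 (j : ℕ) : ℕ := bif Nat.blt j 22 then E_21 else E_22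
def eT_23_25 (j : ℕ) : ℕ := bif Nat.blt j 24 then E_23 else E_24
def eT_21_25 (j : ℕ) : ℕ := bif Nat.blt j 23 then (eT_21_23 j) else (eT_23_25 j)
def eT_18_25 (j : ℕ) : ℕ := bif Nat.blt j 21 then (eT_18_21 j) else (eT_21_25 j)
def eT_12_25 (j : ℕ) : ℕ := bif Nat.blt j 18 then (eT_12_18 j) else (eT_18_25 j)
def eT_0_25 (j : ℕ) : ℕ := bif Nat.blt j 12 then (eT_0_12 j) else (eT_12_25 j)
def eT (j : ℕ) : ℕ := (eT_0_25 j)
noncomputable def chunkF (h : ℕ) : ℕ := Nat.rec (motive := fun _ => ℕ) (eT 0) (fun n _ => eT (Nat.succ n)) h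
noncomputable def Eo (r : ℕ) : ℕ := Nat.land (Nat.shiftRight (chunkF (Nat.shiftRight r 8)) (Nat.mul (Nat.land r 255) 54)) 18014398509481983
def invT : ℕ := 0xffef7cefae78df6d74cf2c70beeb6caeaa689e69648e28607de75c6da6585d65544d24503ce34c2ca2481c61440c2040
def inv (y : ℕ) : ℕ := invOf invT y
def Wt_0_2 (j : ℕ) : List ℕ := bif Nat.blt j 1 then [nat_lit 0, nat_lit 2, nat_lit 0, nat_lit 2] else [nat_lit 0, nat_lit 3, nat_lit 0, nat_lit 3]
def Wt_2_4 (j : ℕ) : List ℕ := bif Nat.blt j 3 then [nat_lit 1, nat_lit 3, nat_lit 1, nat_lit 3] else [nat_lit 2, nat_lit 1, nat_lit 2, nat_lit 1, nat_lit 2, nat_lit 1]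
def Wt_0_4 (j : ℕ) : List ℕ := bif Nat.blt j 2 then (Wt_0_2 j) else (Wt_2_4 j)
def Wt_4_6 (j : ℕ) : List ℕ := bif Nat.blt j 5 then [nat_lit 2, nat_lit 0, nat_lit 2, nat_lit 0] else [nat_lit 2, nat_lit 3, nat_lit 2, nat_lit 3, nat_lit 2, nat_lit 3, nat_lit 0, nat_lit 2, nat_lit 3]
def Wt_7_9 (j : ℕ) : List ℕ := bif Nat.blt j 8 then [nat_lit 1, nat_lit 2, nat_lit 1, nat_lit 2, nat_lit 1, nat_lit 2] else [nat_lit 3, nat_lit 2, nat_lit 3, nat_lit 2, nat_lit 3, nat_lit 2, nat_lit 3, nat_lit 2, nat_lit 3, nat_lit 2, nat_lit 3, nat_lit 2, nat_lit 3, nat_lit 2, nat_lit 3, nat_lit 2]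
def Wt_6_9 (j : ℕ) : List ℕ := bif Nat.blt j 7 then [nat_lit 1, nat_lit 0, nat_lit 1, nat_lit 0, nat_lit 1, nat_lit 0, nat_lit 1, nat_lit 0, nat_lit 1, nat_lit 0] else (Wt_7_9 j)
def Wt_4_9 (j : ℕ) : List ℕ := bif Nat.blt j 6 then (Wt_4_6 j) else (Wt_6_9 j)
def Wt_0_9 (j : ℕ) : List ℕ := bif Nat.blt j 4 then (Wt_0_4 j) else (Wt_4_9 j)
def Wt_9_11 (j : ℕ) : List ℕ := bif Nat.blt j 10 then [nat_lit 3, nat_lit 1, nat_lit 3, nat_lit 1] else [nat_lit 3, nat_lit 0, nat_lit 3, nat_lit 0]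
def Wt_11_13 (j : ℕ) : List ℕ := bif Nat.blt j 12 then [nat_lit 0, nat_lit 1, nat_lit 0, nat_lit 1, nat_lit 0, nat_lit 1, nat_lit 0, nat_lit 1, nat_lit 0, nat_lit 1] else [nat_lit 3, nat_lit 2, nat_lit 3, nat_lit 2, nat_lit 3, nat_lit 2, nat_lit 3, nat_lit 2, nat_lit 0]
def Wt_9_13 (j : ℕ) : List ℕ := bif Nat.blt j 11 then (Wt_9_11 j) else (Wt_11_13 j)
def Wt_13_15 (j : ℕ) : List ℕ := bif Nat.blt j 14 then [nat_lit 2, nat_lit 3, nat_lit 2, nat_lit 3, nat_lit 2, nat_lit 3, nat_lit 2, nat_lit 3, nat_lit 2, nat_lit 3, nat_lit 2, nat_lit 3, nat_lit 2, nat_lit 3, nat_lit 2, nat_lit 3] else [nat_lit 3, nat_lit 2, nat_lit 3, nat_lit 2, nat_lit 3, nat_lit 2, nat_lit 3, nat_lit 0, nat_lit 2]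
def Wt_16_18 (j : ℕ) : List ℕ := bif Nat.blt j 17 then [nat_lit 63, nat_lit 2, nat_lit 63, nat_lit 2] else [nat_lit 63, nat_lit 1, nat_lit 63, nat_lit 1]
def Wt_15_18 (j : ℕ) : List ℕ := bif Nat.blt j 16 then [nat_lit 63, nat_lit 0, nat_lit 1, nat_lit 0, nat_lit 1, nat_lit 0, nat_lit 1, nat_lit 0, nat_lit 1, nat_lit 0, nat_lit 1] else (Wt_16_18 j)
def Wt_13_18 (j : ℕ) : List ℕ := bif Nat.blt j 15 then (Wt_13_15 j) else (Wt_15_18 j)
def Wt_9_18 (j : ℕ) : List ℕ := bif Nat.blt j 13 then (Wt_9_13 j) else (Wt_13_18 j)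
def Wt_0_18 (j : ℕ) : List ℕ := bif Nat.blt j 9 then (Wt_0_9 j) else (Wt_9_18 j)
def Wt_18_20 (j : ℕ) : List ℕ := bif Nat.blt j 19 then [nat_lit 63, nat_lit 3, nat_lit 63, nat_lit 3] else [nat_lit 63, nat_lit 0, nat_lit 63, nat_lit 0]
def Wt_20_22 (j : ℕ) : List ℕ := bif Nat.blt j 21 then [nat_lit 2, nat_lit 2, nat_lit 63] else [nat_lit 1, nat_lit 1, nat_lit 63]
def Wt_18_22 (j : ℕ) : List ℕ := bif Nat.blt j 20 then (Wt_18_20 j) else (Wt_20_22 j)
def Wt_22_24 (j : ℕ) : List ℕ := bif Nat.blt j 23 then [nat_lit 3, nat_lit 3, nat_lit 63] else [nat_lit 0, nat_lit 0, nat_lit 63]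
def Wt_25_27 (j : ℕ) : List ℕ := bif Nat.blt j 26 then [nat_lit 63, nat_lit 1, nat_lit 63, nat_lit 1, nat_lit 63] else [nat_lit 63, nat_lit 3, nat_lit 63, nat_lit 3, nat_lit 63]
def Wt_24_27 (j : ℕ) : List ℕ := bif Nat.blt j 25 then [nat_lit 63, nat_lit 63, nat_lit 63] else (Wt_25_27 j)
def Wt_22_27 (j : ℕ) : List ℕ := bif Nat.blt j 24 then (Wt_22_24 j) else (Wt_24_27 j)
def Wt_18_27 (j : ℕ) : List ℕ := bif Nat.blt j 22 then (Wt_18_22 j) else (Wt_22_27 j)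
def Wt_27_29 (j : ℕ) : List ℕ := bif Nat.blt j 28 then [nat_lit 63, nat_lit 63, nat_lit 3, nat_lit 63, nat_lit 3] else [nat_lit 63, nat_lit 63, nat_lit 2, nat_lit 63, nat_lit 2]
def Wt_29_31 (j : ℕ) : List ℕ := bif Nat.blt j 30 then [nat_lit 63, nat_lit 63, nat_lit 1, nat_lit 63, nat_lit 1] else [nat_lit 63, nat_lit 0, nat_lit 63, nat_lit 0, nat_lit 63]
def Wt_27_31 (j : ℕ) : List ℕ := bif Nat.blt j 29 then (Wt_27_29 j) else (Wt_29_31 j)
def Wt_31_33 (j : ℕ) : List ℕ := bif Nat.blt j 32 then [nat_lit 63, nat_lit 2, nat_lit 63, nat_lit 2, nat_lit 63] else [nat_lit 63, nat_lit 63, nat_lit 0, nat_lit 63, nat_lit 0]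
def Wt_34_36 (j : ℕ) : List ℕ := bif Nat.blt j 35 then [nat_lit 63, nat_lit 63, nat_lit 0, nat_lit 63, nat_lit 0, nat_lit 63] else [nat_lit 63, nat_lit 63, nat_lit 63, nat_lit 63]
def Wt_33_36 (j : ℕ) : List ℕ := bif Nat.blt j 34 then [nat_lit 63, nat_lit 63, nat_lit 3, nat_lit 63, nat_lit 3, nat_lit 63] else (Wt_34_36 j)
def Wt_31_36 (j : ℕ) : List ℕ := bif Nat.blt j 33 then (Wt_31_33 j) else (Wt_33_36 j)
def Wt_27_36 (j : ℕ) : List ℕ := bif Nat.blt j 31 then (Wt_27_31 j) else (Wt_31_36 j)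
def Wt_18_36 (j : ℕ) : List ℕ := bif Nat.blt j 27 then (Wt_18_27 j) else (Wt_27_36 j)
def Wt_0_36 (j : ℕ) : List ℕ := bif Nat.blt j 18 then (Wt_0_18 j) else (Wt_18_36 j)
def Wt (j : ℕ) : List ℕ := (Wt_0_36 j)
def W (j : ℕ) : List ℕ := bif Nat.blt j 36 then Wt j else []
theorem W_ge (j : ℕ) (h : 36 ≤ j) : W j = [] := by
  unfold W
  rw [blt_false_of_le h]
  rfl
def Hl : List ℕ := [nat_lit 0, nat_lit 1]
def isH (y : ℕ) : Bool := List.elem y Hl
def Rb : List (List ℕ) := [[nat_lit 0, nat_lit 0],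
  [nat_lit 1, nat_lit 0, nat_lit 1, nat_lit 0, nat_lit 1, nat_lit 0, nat_lit 1, nat_lit 0, nat_lit 1, nat_lit 0],
  [nat_lit 2, nat_lit 0, nat_lit 2, nat_lit 0],
  [nat_lit 3, nat_lit 0, nat_lit 3, nat_lit 0],
  [nat_lit 1, nat_lit 1],
  [nat_lit 2, nat_lit 1, nat_lit 2, nat_lit 1, nat_lit 2, nat_lit 1],
  [nat_lit 3, nat_lit 1, nat_lit 3, nat_lit 1],
  [nat_lit 2, nat_lit 2],
  [nat_lit 3, nat_lit 2, nat_lit 3, nat_lit 2, nat_lit 3, nat_lit 2, nat_lit 3, nat_lit 2, nat_lit 3, nat_lit 2, nat_lit 3, nat_lit 2, nat_lit 3, nat_lit 2, nat_lit 3, nat_lit 2],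
  [nat_lit 3, nat_lit 3],
  [nat_lit 2, nat_lit 3, nat_lit 2, nat_lit 3, nat_lit 2, nat_lit 3, nat_lit 2, nat_lit 3, nat_lit 0],
  []]
def spT (j : ℕ) : ℕ := nat_lit 0x160000000000000012000000000000000e00000000000000080000000e000000120000001200000008000000160000000000000012000000080000000e0000000000000012000000080000000e0000200200004014000000100000401500000002000020060000200c000020100000000a0000200200006014000020040000200a0000000c0000000600000004
def sp (j : ℕ) : ℕ := Nat.land (Nat.shiftRight (spT (Nat.shiftRight j 6)) (Nat.mul (Nat.land j 63) 32)) 4294967295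
theorem Eo_lt (r : ℕ) : Eo r < 18014398509481984 := land54_lt _
def cT_0_2 (j : ℕ) : ℕ := bif Nat.blt j 1 then nat_lit 0xb40000b30000b20000b10000ae0000ad0000ac0000ab0000aa0000a70000a60000a50000a40000a200009f00009d00009c00009600009500008e00008d00008b00008a00008700008600008200008100008000007f00007e00007d00007c00007b00007900007800007700007600007400007300007200007000006e00006d00006c00006900006800006300006200006100006000005e00005b00005a00005900005800005700005600005500005400005300005200005100005000004f00004e00004d00004b00004a00004700004600004200004100004000003e00003c00003b00003a00003900003800003700003600003500003400003300003200003100002f00002c00002b00002a00002800002700002600002500002400002300002200002100002000001e00001c00001b00001a00001900001800001700001600001500001400001200001100001000000f00000e00000d00000c00000b00000a000009000008000007000006000005000004000003000002000001000000 else nat_lit 0x3770003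300002e20002b900027e00027c0002550002510002370002120002110001e00001df0001dd0001dc0001d30001ce0001be0001bb0001ad0001a900019e00018d00018c00017900016d00016400016300016200016100015e00015d00015800015500015200014b00014900014700014000013f00013d00013c00013900013800012f00012d00012200012100011400010a0001040001030001020001000000ff0000fe0000fc0000fa0000f80000f40000f30000f20000f10000f00000ef0000ee0000ed0000e90000e80000e70000e60000e40000de0000dd0000d40000d30000c90000c60000c50000c10000bc0000bb0000ba0000b90000b80000b70000b60000b5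
def cT (j : ℕ) : ℕ := (cT_0_2 j)
noncomputable def cChunk (h : ℕ) : ℕ := Nat.rec (motive := fun _ => ℕ) (cT 0) (fun n _ => cT (Nat.succ n)) h
noncomputable def cF (i : ℕ) : ℕ := Nat.land (Nat.shiftRight (cChunk (Nat.shiftRight i 7)) (Nat.mul (Nat.land i 127) 24)) 16777215
theorem cF_lt (i : ℕ) : cF i < 16777216 := land24_lt _
theorem cF_zero : cF 0 = 0 := by decide +kernel
def nDef : ℕ := 1309
def nEv : ℕ := 3140
def nW : ℕ := 36
def N : ℕ := 216
def ys : List ℕ := [nat_lit 0, nat_lit 1, nat_lit 2, nat_lit 3]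
def Js : List ℕ := [nat_lit 0, nat_lit 1, nat_lit 2, nat_lit 3]
def Jp : List ℕ := [nat_lit 0, nat_lit 1]
end Cfsg.Agent.Lib.ToddCox.SuzC3
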